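import Mathlib
import Groth.Agent.Lead.RegularLocal3

/-!
helper70 library: over a two-dimensional regular local ring `S`, the kernel of any linear map from
a finite free module to a module without socle (no nonzero element killed by the maximal ideal) is
free.  (A hands-on special case of Auslander–Buchsbaum.)
-/

set_option autoImplicit false
universe u
open IsLocalRing TensorProduct

namespace Groth.Agent.H70.Planar

/-- no nonzero element is killed by the maximal ideal -/
def SocleFree (R : Type*) [CommRing R] [IsLocalRing R] (W : Type*) [AddCommGroup W] [Module R W] :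
    Prop :=
  ∀ z : W, (∀ r ∈ maximalIdeal R, r • z = 0) → z = 0

theorem eq_zero_of_pow_smul {R : Type*} [CommRing R] [IsLocalRing R] {W : Type*} [AddCommGroup W]
    [Module R W] (h : SocleFree R W) : ∀ (n : ℕ) (v : W),
    (∀ r ∈ maximalIdeal R ^ n, r • v = 0) → v = 0 := by
  intro n
  induction n with
  | zero =>
    intro v hv
    have := hv 1 (by simp)
    simpa using this
  | succ n ih =>
    intro v hv
    apply ih
    intro r hr
    apply h
    intro s hs
    rw [smul_smul]
    apply hv
    rw [pow_succ']
    exact Ideal.mul_mem_mul hs hr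

theorem socleFree_of_isSMulRegular {R : Type*} [CommRing R] [IsLocalRing R] {W : Type*}
    [AddCommGroup W] [Module R W] (x : R) (hx : x ∈ maximalIdeal R) (hreg : IsSMulRegular W x) :
    SocleFree R W := by
  intro z hz
  apply hreg
  simp only [smul_zero]
  exact hz x hx

theorem exists_two_generators (S : Type u) [CommRing S] [IsRegularLocalRing S]
    (hS : ringKrullDim S = 2) :
    ∃ x : Fin 2 → S, Ideal.span (Set.range x) = maximalIdeal S := by
  classical
  have hsf : (maximalIdeal S).spanFinrank = 2 := by
    have := Groth.Agent.Lead.RLR.ringKrullDim_eq_spanFinrank S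
    rw [hS] at this
    exact_mod_cast this.symm
  have hfg : (maximalIdeal S).FG := IsNoetherian.noetherian _
  have hfin := Submodule.FG.finite_generators hfg
  have hcard : hfin.toFinset.card = 2 := by
    rw [← Set.ncard_eq_toFinset_card _ hfin, Submodule.FG.generators_ncard hfg, hsf]
  obtain ⟨x, hx⟩ := Groth.Agent.Lead.RLR.exists_fin_range_eq hfin.toFinset 2 hcard
  refine ⟨x, ?_⟩
  rw [hx, Set.Finite.coe_toFinset]
  exact Submodule.span_generators _

open RingTheory.Sequence Pointwise in
theorem free_ker (S : Type u) [CommRing S] [IsRegularLocalRing S] (hS : ringKrullDim S = 2)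
    {X : Type u} [AddCommGroup X] [Module S X] (hX : SocleFree S X) {a : ℕ}
    (p : (Fin a → S) →ₗ[S] X) : Module.Free S (LinearMap.ker p) := by
  classical
  haveI : IsDomain S := Groth.Agent.Lead.RLR.isDomain S
  obtain ⟨x, hx⟩ := exists_two_generators S hS
  have hreg := Groth.Agent.Lead.RLR.isRegular_ofFn S 2 hS x hx
  have hlist : List.ofFn x = [x 0, x 1] := by simp [List.ofFn_succ]
  rw [hlist, isRegular_cons_iff, isRegular_cons_iff] at hreg
  obtain ⟨h0, h1, -⟩ := hreg
  -- key divisibility
  have key : ∀ c d : S, x 1 * c = x 0 * d → ∃ e, c = x 0 * e := by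
    intro c d hcd
    have hz : (Submodule.Quotient.mk c : QuotSMulTop (x 0) S) = 0 := by
      apply h1
      simp only [smul_zero]
      rw [← Submodule.Quotient.mk_smul, Submodule.Quotient.mk_eq_zero, smul_eq_mul, hcd]
      exact Submodule.smul_mem_pointwise_smul d (x 0) ⊤ trivial
    rw [Submodule.Quotient.mk_eq_zero, Submodule.mem_smul_pointwise_iff_exists] at hz
    obtain ⟨e, -, he⟩ := hz
    exact ⟨e, he.symm⟩
  have hx0 : x 0 ≠ 0 := by
    intro h
    have := h0 (show x 0 • (1 : S) = x 0 • (0 : S) by simp [h])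
    exact one_ne_zero this
  have hxm : ∀ i, x i ∈ maximalIdeal S := fun i => hx ▸ Ideal.subset_span ⟨i, rfl⟩
  have hgen : ∀ s ∈ maximalIdeal S, ∃ α β : S, s = α * x 0 + β * x 1 := by
    intro s hs
    rw [← hx, Ideal.mem_span_range_iff_exists_fun] at hs
    obtain ⟨c, hc⟩ := hs
    rw [Fin.sum_univ_two] at hc
    exact ⟨c 0, c 1, hc.symm⟩
  -- freeness criterion
  haveI : Module.FinitePresentation S (LinearMap.ker p) :=
    Module.finitePresentation_of_finite S _
  apply Module.free_of_maximalIdeal_rTensor_injective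
  rw [injective_iff_map_eq_zero]
  intro z hz
  -- normal form of z
  have hform : ∀ z : maximalIdeal S ⊗[S] LinearMap.ker p, ∃ u v : LinearMap.ker p,
      z = (⟨x 0, hxm 0⟩ : maximalIdeal S) ⊗ₜ[S] u + (⟨x 1, hxm 1⟩ : maximalIdeal S) ⊗ₜ[S] v := by
    intro z
    induction z using TensorProduct.induction_on with
    | zero => exact ⟨0, 0, by simp⟩
    | tmul s k =>
      obtain ⟨α, β, hs⟩ := hgen s.1 s.2
      refine ⟨α • k, β • k, ?_⟩
      have : s = α • (⟨x 0, hxm 0⟩ : maximalIdeal S) + β • (⟨x 1, hxm 1⟩ : maximalIdeal S) := by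
        ext
        simp [hs]
      rw [this, TensorProduct.add_tmul, TensorProduct.smul_tmul, TensorProduct.smul_tmul]
    | add z₁ z₂ h₁ h₂ =>
      obtain ⟨u₁, v₁, rfl⟩ := h₁
      obtain ⟨u₂, v₂, rfl⟩ := h₂
      refine ⟨u₁ + u₂, v₁ + v₂, ?_⟩
      rw [TensorProduct.tmul_add, TensorProduct.tmul_add]
      abel
  obtain ⟨u, v, rfl⟩ := hform z
  -- the relation x 0 • u + x 1 • v = 0
  have hrel : x 0 • (u : Fin a → S) + x 1 • (v : Fin a → S) = 0 := by
    have h2 := congrArg (TensorProduct.lid S (LinearMap.ker p)) hz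
    simp only [map_add, LinearMap.rTensor_tmul, Submodule.subtype_apply, TensorProduct.lid_tmul,
      map_zero] at h2
    have h3 := congrArg Subtype.val h2
    simpa using h3
  -- divide v by x 0
  have hdiv : ∀ j, ∃ e, (v : Fin a → S) j = x 0 * e := by
    intro j
    have hj := congrFun hrel j
    simp only [Pi.add_apply, Pi.smul_apply, smul_eq_mul, Pi.zero_apply] at hj
    exact key _ (-(u : Fin a → S) j) (by linear_combination hj)
  choose w hw using hdiv
  have hvw : (v : Fin a → S) = x 0 • w := by
    funext j
    simp [hw j]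
  have huw : (u : Fin a → S) = -(x 1 • w) := by
    funext j
    have hj := congrFun hrel j
    simp only [Pi.add_apply, Pi.smul_apply, smul_eq_mul, Pi.zero_apply, hw j] at hj
    have : x 0 * ((u : Fin a → S) j + x 1 * w j) = 0 := by linear_combination hj
    rcases mul_eq_zero.mp this with h | h
    · exact absurd h hx0
    · simp only [Pi.neg_apply, Pi.smul_apply, smul_eq_mul]
      linear_combination h
  -- w lies in the kernel
  have hwker : w ∈ LinearMap.ker p := by
    rw [LinearMap.mem_ker]
    apply hX
    intro s hs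
    obtain ⟨α, β, rfl⟩ := hgen s hs
    have e0 : x 0 • p w = 0 := by
      rw [← map_smul, ← hvw]
      exact v.2
    have e1 : x 1 • p w = 0 := by
      have : p (-(x 1 • w)) = 0 := by
        rw [← huw]
        exact u.2
      rw [map_neg, neg_eq_zero, map_smul] at this
      exact this
    rw [add_smul, mul_smul, mul_smul, e0, e1, smul_zero, smul_zero, add_zero]
  have hv' : v = x 0 • (⟨w, hwker⟩ : LinearMap.ker p) := Subtype.ext hvw
  have hu' : u = -(x 1 • (⟨w, hwker⟩ : LinearMap.ker p)) := Subtype.ext huw
  rw [hv', hu', TensorProduct.tmul_neg, ← TensorProduct.smul_tmul, ← TensorProduct.smul_tmul]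
  have : x 1 • (⟨x 0, hxm 0⟩ : maximalIdeal S) = x 0 • (⟨x 1, hxm 1⟩ : maximalIdeal S) := by
    ext
    simp [mul_comm]
  rw [this]
  abel

end Groth.Agent.H70.Planar
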