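import Mathlib
/-!
helper70 library: short exact sequences of modules as short exact short complexes in `ModuleCat`.
-/
set_option autoImplicit false
universe u
open CategoryTheory

namespace Groth.Agent.H70.Planar

theorem shortExact_of_exact {A : Type u} [CommRing A] {M₁ M₂ M₃ : Type u} [AddCommGroup M₁]
    [Module A M₁] [AddCommGroup M₂] [Module A M₂] [AddCommGroup M₃] [Module A M₃]
    (f : M₁ →ₗ[A] M₂) (g : M₂ →ₗ[A] M₃) (hf : Function.Injective f) (hg : Function.Surjective g)
    (hfg : Function.Exact f g) :
    (ModuleCat.shortComplexOfCompEqZero f g hfg.linearMap_comp_eq_zero).ShortExact where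
  exact := (ShortComplex.ShortExact.moduleCat_exact_iff_function_exact _).mpr hfg
  mono_f := (ModuleCat.mono_iff_injective _).mpr hf
  epi_g := (ModuleCat.epi_iff_surjective _).mpr hg

end Groth.Agent.H70.Planar
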