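import Mathlib
import Groth.Agent.H70.Planar.Free

/-!
helper70 library: "matrix factorisation" presentation of a socle-free module over a quotient `R`
of a two-dimensional regular local ring `S`.
-/

set_option autoImplicit false
universe u
open IsLocalRing

namespace Groth.Agent.H70.Planar

section desc

variable {S R : Type*} [CommRing S] [CommRing R] (π : S →+* R)

/-- descend a matrix map along a ring hom -/
noncomputable def desc {m n : ℕ} (L : (Fin m → S) →ₗ[S] (Fin n → S)) :
    (Fin m → R) →ₗ[R] (Fin n → R) :=
  Matrix.toLin' ((LinearMap.toMatrix' L).map π)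

theorem desc_apply {m n : ℕ} (L : (Fin m → S) →ₗ[S] (Fin n → S)) (v : Fin m → S) :
    desc π L (π ∘ v) = π ∘ (L v) := by
  funext i
  rw [desc, Matrix.toLin'_apply, ← RingHom.map_mulVec, LinearMap.toMatrix'_mulVec]
  rfl

theorem exists_comp_eq (hπ : Function.Surjective π) {m : ℕ} (w : Fin m → R) :
    ∃ v : Fin m → S, π ∘ v = w := by
  choose v hv using fun i => hπ (w i)
  exact ⟨v, funext hv⟩

end desc

theorem exists_presentation (S : Type u) [CommRing S] [IsRegularLocalRing S]
    (hS : ringKrullDim S = 2) (R : Type u) [CommRing R] [IsLocalRing R] (π : S →+* R)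
    (hπ : Function.Surjective π) (M : Type u) [AddCommGroup M] [Module R M] [Module.Finite R M]
    (hM : SocleFree R M) :
    ∃ (a b : ℕ) (p : (Fin a → R) →ₗ[R] M) (A : (Fin b → R) →ₗ[R] (Fin a → R)),
      Function.Surjective p ∧ LinearMap.range A = LinearMap.ker p ∧
      ∀ t ∈ Module.annihilator R M, ∃ B : (Fin a → R) →ₗ[R] (Fin b → R),
        B ∘ₗ A = t • LinearMap.id := by
  classical
  obtain ⟨a, p, hp⟩ := Module.Finite.exists_fin' R M
  letI : Module S M := Module.compHom M π
  have hsmul : ∀ (s : S) (z : M), s • z = π s • z := fun _ _ => rfl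
  -- socle-free over S
  have hMS : SocleFree S M := by
    intro z hz
    apply hM
    intro r hr
    obtain ⟨s, rfl⟩ := hπ r
    rw [← hsmul]
    apply hz
    rw [IsLocalRing.mem_maximalIdeal, mem_nonunits_iff] at hr ⊢
    exact fun hs => hr (hs.map π)
  -- the S-linear map
  let pS : (Fin a → S) →ₗ[S] M :=
    { toFun := fun v => p (π ∘ v)
      map_add' := fun v w => by
        rw [← map_add]
        congr 1
        funext i
        simp
      map_smul' := fun s v => by
        rw [RingHom.id_apply, hsmul, ← map_smul]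
        congr 1
        funext i
        simp }
  have hpS : ∀ v, pS v = p (π ∘ v) := fun _ => rfl
  haveI : Module.Free S (LinearMap.ker pS) := free_ker S hS hMS pS
  haveI : Module.Finite S (LinearMap.ker pS) := inferInstance
  let e := Module.finBasis S (LinearMap.ker pS)
  let b := Module.finrank S (LinearMap.ker pS)
  let AS : (Fin b → S) →ₗ[S] (Fin a → S) :=
    (LinearMap.ker pS).subtype ∘ₗ e.equivFun.symm.toLinearMap
  have hAS : ∀ w, AS w = ((e.equivFun.symm w : LinearMap.ker pS) : Fin a → S) := fun _ => rfl
  refine ⟨a, b, p, desc π AS, hp, ?_, ?_⟩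
  · apply le_antisymm
    · rintro _ ⟨w, rfl⟩
      obtain ⟨v, rfl⟩ := exists_comp_eq π hπ w
      rw [desc_apply, LinearMap.mem_ker, ← hpS, hAS]
      exact (e.equivFun.symm v).2
    · intro w hw
      obtain ⟨v, rfl⟩ := exists_comp_eq π hπ w
      rw [LinearMap.mem_ker, ← hpS] at hw
      refine ⟨π ∘ (e.equivFun ⟨v, hw⟩), ?_⟩
      rw [desc_apply, hAS, LinearEquiv.symm_apply_apply]
  · intro t ht
    obtain ⟨s, rfl⟩ := hπ t
    have hsK : ∀ v : Fin a → S, s • v ∈ LinearMap.ker pS := by
      intro v
      rw [LinearMap.mem_ker, map_smul, hsmul]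
      exact Module.mem_annihilator.mp ht _
    let BS : (Fin a → S) →ₗ[S] (Fin b → S) :=
      e.equivFun.toLinearMap ∘ₗ
        LinearMap.codRestrict (LinearMap.ker pS) (s • LinearMap.id) hsK
    refine ⟨desc π BS, ?_⟩
    apply LinearMap.ext
    intro w
    obtain ⟨v, rfl⟩ := exists_comp_eq π hπ w
    rw [LinearMap.comp_apply, desc_apply, desc_apply]
    have : BS (AS v) = s • v := by
      change e.equivFun (LinearMap.codRestrict (LinearMap.ker pS) (s • LinearMap.id) hsK (AS v))
        = s • v
      have h2 : LinearMap.codRestrict (LinearMap.ker pS) (s • LinearMap.id) hsK (AS v)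
          = s • e.equivFun.symm v := by
        apply Subtype.ext
        change s • AS v = s • ((e.equivFun.symm v : LinearMap.ker pS) : Fin a → S)
        rw [hAS]
      rw [h2, map_smul, LinearEquiv.apply_symm_apply]
    rw [this]
    funext i
    simp

end Groth.Agent.H70.Planar
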